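import Cfsg.Agent.HNRec.Endgame.Model
import Mathlib.GroupTheory.Subgroup.Centralizer
import Mathlib.SetTheory.Cardinal.Finite

/-!
What the endgame uses about `HN`: the centraliser of the second involution `b`, modulo `b`,
contains a copy of `Md` whose classes of involutions lift as stated.
-/

set_option autoImplicit false
set_option maxRecDepth 100000

namespace CfsgLib.HNRec.Endgame

namespace Md

/-- The involution number `0` of `SL₂(4)`. -/
def i0 : SL := ⟨0⟩

/-- A translation of determinant one: both lifts are of the class of `t`. -/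
def r60 : Md := tr ⟨65⟩

/-- A translation of rank one: both lifts are of the class of `b`. -/
def r75 : Md := tr ⟨1⟩

/-- A translation of primitive determinant: the lifts square to `b`. -/
def r120 : Md := tr ⟨66⟩

/-- The swap: one lift is of the class of `t`, the other of the class of `b`. -/
def r960 : Md := ⟨0, ⟨1, 1, true⟩⟩

/-- A pair of involutions: both lifts are of the class of `b`. -/
def r3600 : Md := ⟨0, ⟨i0, i0, false⟩⟩

/-- An involution of one factor: the lifts square to `b`. -/
def r480 : Md := ⟨0, ⟨i0, 1, false⟩⟩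

end Md

/-- The local facts at the two involutions `t` and `b` of a group `H`. -/
structure Local {H : Type*} [Group H] (t b : H) where
  /-- A section of `C(b) → C(b) / ⟨b⟩` over the copy of `Md`. -/
  lift : Md → H
  t_ne : t ≠ 1
  t_sq : t * t = 1
  b_ne : b ≠ 1
  b_sq : b * b = 1
  card_cent : Nat.card (Subgroup.centralizer ({t} : Set H)) = 177408000
  classes : ∀ c : H, c * t = t * c → c * c = 1 → c ≠ 1 → IsConj c t ∨ IsConj c b
  lift_comm : ∀ d, lift d * b = b * lift d
  lift_mul : ∀ d e, lift d * lift e = lift (d * e) ∨ lift d * lift e = lift (d * e) * b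
  lift_inj : ∀ d, lift d = 1 ∨ lift d = b → d = 1
  h60 : IsConj (lift Md.r60) t ∧ IsConj (lift Md.r60 * b) t
  h75 : IsConj (lift Md.r75) b ∧ IsConj (lift Md.r75 * b) b
  h120 : lift Md.r120 * lift Md.r120 = b
  h960 : (IsConj (lift Md.r960) t ∧ IsConj (lift Md.r960 * b) b) ∨
    (IsConj (lift Md.r960 * b) t ∧ IsConj (lift Md.r960) b)
  h3600 : IsConj (lift Md.r3600) b ∧ IsConj (lift Md.r3600 * b) b
  h480 : lift Md.r480 * lift Md.r480 = b
  cent60 : ∀ x, x * b = b * x → x * lift Md.r60 = lift Md.r60 * x →
    ∃ d, x = lift d ∨ x = lift d * b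
  cent960 : ∀ x, x * b = b * x → x * lift Md.r960 = lift Md.r960 * x →
    ∃ d, x = lift d ∨ x = lift d * b

end CfsgLib.HNRec.Endgame
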