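import Cfsg.Agent.HNRec.Endgame.Tables
import Mathlib.Algebra.Group.MinimalAxioms

/-!
The quotient of the centraliser of the second involution class of `HN` by the involution, as the
extension of the two by two matrices over the field of four elements by
`(SL₂(4) × SL₂(4)).2`.
-/

set_option autoImplicit false
set_option Elab.async false
set_option maxRecDepth 100000

namespace CfsgLib.HNRec.Endgame

/-- An entry of a table of bytes. -/
def tab (T k : ℕ) : ℕ := Nat.land (Nat.shiftRight T (8 * k)) 255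

/-- An entry of a table of words of eight bytes. -/
def tab64 (T k : ℕ) : ℕ := Nat.land (Nat.shiftRight T (64 * k)) 18446744073709551615

/-- A test at all numbers below a bound. -/
def allN (p : ℕ → Bool) : ℕ → Bool
  | 0 => true
  | n + 1 => p n && allN p n

theorem allN_spec {p : ℕ → Bool} : ∀ {n : ℕ}, allN p n = true → ∀ i < n, p i = true := by
  intro n
  induction n with
  | zero => intro _ i hi; exact absurd hi (Nat.not_lt_zero i)
  | succ n ih =>
    intro h i hi
    rw [allN, Bool.and_eq_true] at h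
    rcases Nat.lt_succ_iff_lt_or_eq.mp hi with h' | rfl
    exacts [ih h.2 i h', h.1]

/-- The number of a product. -/
def mulN (i j : ℕ) : ℕ := tab mulT (60 * i + j)

/-- `SL₂(4)`, numbered. -/
structure SL where
  /-- The number. -/
  n : Fin 60
deriving DecidableEq

namespace SL

instance : Fintype SL :=
  Fintype.ofEquiv (Fin 60) ⟨SL.mk, SL.n, fun _ => rfl, fun _ => rfl⟩

instance : Mul SL := ⟨fun a b => ⟨⟨mulN a.n b.n % 60, Nat.mod_lt _ (by norm_num)⟩⟩⟩

instance : One SL := ⟨⟨⟨oneI, by decide⟩⟩⟩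

instance : Inv SL := ⟨fun a => ⟨⟨tab invT a.n % 60, Nat.mod_lt _ (by norm_num)⟩⟩⟩

/-- The field automorphism. -/
def fr (a : SL) : SL := ⟨⟨tab frT a.n % 60, Nat.mod_lt _ (by norm_num)⟩⟩

/-- The image of a point of the line. -/
def pt (a : SL) (p : Fin 5) : Fin 5 :=
  ⟨tab permT (5 * a.n + p) % 5, Nat.mod_lt _ (by norm_num)⟩

theorem pt_mul : ∀ a b : SL, ∀ p : Fin 5, pt (a * b) p = pt a (pt b p) := by decide +kernel

theorem pt_ext : ∀ a b : SL, (∀ p : Fin 5, pt a p = pt b p) → a = b := by decide +kernel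

theorem one_mul' : ∀ a : SL, 1 * a = a := by decide +kernel

theorem inv_mul' : ∀ a : SL, a⁻¹ * a = 1 := by decide +kernel

instance : Group SL :=
  Group.ofLeftAxioms
    (fun a b c => pt_ext _ _ fun p => by simp only [pt_mul])
    one_mul' inv_mul'

theorem fr_mul : ∀ a b : SL, fr (a * b) = fr a * fr b := by decide +kernel

theorem fr_fr : ∀ a : SL, fr (fr a) = a := by decide +kernel

theorem fr_one : fr 1 = 1 := by decide +kernel

theorem fr_inv : ∀ a : SL, fr a⁻¹ = (fr a)⁻¹ := by decide +kernel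

end SL

/-- `(SL₂(4) × SL₂(4)).2`. -/
structure K where
  /-- The left factor. -/
  a : SL
  /-- The right factor. -/
  b : SL
  /-- Whether the swap occurs. -/
  s : Bool
deriving DecidableEq

namespace K

instance : Fintype K :=
  Fintype.ofEquiv (SL × SL × Bool)
    ⟨fun p => ⟨p.1, p.2.1, p.2.2⟩, fun k => (k.a, k.b, k.s), fun _ => rfl, fun _ => rfl⟩

instance : Mul K := ⟨fun k l => ⟨k.a * cond k.s (SL.fr l.b) l.a, k.b * cond k.s (SL.fr l.a) l.b,
  xor k.s l.s⟩⟩

theorem mul_def (k l : K) : k * l = ⟨k.a * cond k.s (SL.fr l.b) l.a,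
    k.b * cond k.s (SL.fr l.a) l.b, xor k.s l.s⟩ := rfl

instance : One K := ⟨⟨1, 1, false⟩⟩

theorem one_def : (1 : K) = ⟨1, 1, false⟩ := rfl

instance : Inv K := ⟨fun k => cond k.s ⟨(SL.fr k.b)⁻¹, (SL.fr k.a)⁻¹, true⟩ ⟨k.a⁻¹, k.b⁻¹, false⟩⟩

theorem inv_def (k : K) :
    k⁻¹ = cond k.s ⟨(SL.fr k.b)⁻¹, (SL.fr k.a)⁻¹, true⟩ ⟨k.a⁻¹, k.b⁻¹, false⟩ := rfl

instance : Group K :=
  Group.ofLeftAxioms
    (fun ⟨a, b, s⟩ ⟨c, d, r⟩ ⟨e, f, u⟩ => by
      cases s <;> cases r <;> simp [mul_def, mul_assoc, SL.fr_mul, SL.fr_fr])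
    (fun ⟨a, b, s⟩ => by simp [mul_def, one_def])
    (fun ⟨a, b, s⟩ => by
      cases s <;> simp [mul_def, one_def, inv_def, SL.fr_inv, SL.fr_fr])

end K

/-- The matrices, numbered bit by bit. -/
structure Mat where
  /-- The number. -/
  v : Fin 256
deriving DecidableEq

namespace Mat

instance : Fintype Mat :=
  Fintype.ofEquiv (Fin 256) ⟨Mat.mk, Mat.v, fun _ => rfl, fun _ => rfl⟩

instance : Add Mat :=
  ⟨fun x y => ⟨⟨x.v.val ^^^ y.v.val,
    Nat.xor_lt_two_pow (n := 8) x.v.isLt y.v.isLt⟩⟩⟩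

instance : Zero Mat := ⟨⟨0⟩⟩

instance : Neg Mat := ⟨fun x => x⟩

theorem ext' {x y : Mat} (h : x.v.val = y.v.val) : x = y := by
  obtain ⟨x⟩ := x
  obtain ⟨y⟩ := y
  exact congrArg Mat.mk (Fin.ext h)

theorem add_val (x y : Mat) : (x + y).v.val = x.v.val ^^^ y.v.val := rfl

theorem zero_val : (0 : Mat).v.val = 0 := rfl

instance : AddCommGroup Mat :=
  { AddGroup.ofLeftAxioms
      (fun x y z : Mat => ext' (by simp only [add_val, Nat.xor_assoc]))
      (fun x => ext' (by simp [add_val, zero_val]))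
      (fun x => ext' (by
        show x.v.val ^^^ x.v.val = 0
        exact Nat.xor_self _)) with
    add_comm := fun x y => ext' (by simp only [add_val, Nat.xor_comm]) }

theorem add_self (x : Mat) : x + x = 0 := ext' (Nat.xor_self _)

/-- The determinant: `0`, `1`, or a number of a primitive element. -/
def det (x : Mat) : ℕ := tab detT x.v

end Mat

/-- A byte if a bit is set. -/
def pick (c k v : ℕ) : ℕ := bif Nat.testBit v k then tab c k else 0

/-- A linear map given by the images of the bits. -/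
def app (c v : ℕ) : ℕ :=
  pick c 0 v ^^^ pick c 1 v ^^^ pick c 2 v ^^^ pick c 3 v ^^^ pick c 4 v ^^^ pick c 5 v ^^^
    pick c 6 v ^^^ pick c 7 v

theorem pick_lt (c k v : ℕ) : pick c k v < 2 ^ 8 := by
  unfold pick
  cases Nat.testBit v k
  · norm_num
  · exact Nat.lt_succ_of_le Nat.and_le_right

theorem app_lt (c v : ℕ) : app c v < 256 :=
  Nat.xor_lt_two_pow (n := 8) (Nat.xor_lt_two_pow (Nat.xor_lt_two_pow (Nat.xor_lt_two_pow
    (Nat.xor_lt_two_pow (Nat.xor_lt_two_pow (Nat.xor_lt_two_pow (pick_lt c 0 v) (pick_lt c 1 v))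
      (pick_lt c 2 v)) (pick_lt c 3 v)) (pick_lt c 4 v)) (pick_lt c 5 v)) (pick_lt c 6 v))
    (pick_lt c 7 v)

theorem pick_xor (c k v w : ℕ) : pick c k (v ^^^ w) = pick c k v ^^^ pick c k w := by
  unfold pick
  rw [Nat.testBit_xor]
  cases Nat.testBit v k <;> cases Nat.testBit w k <;> simp

theorem app_xor (c v w : ℕ) : app c (v ^^^ w) = app c v ^^^ app c w := by
  simp only [app, pick_xor]
  ac_rfl

namespace Mat

/-- A linear map given by its code. -/
def map (c : ℕ) : Mat →+ Mat where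
  toFun x := ⟨⟨app c x.v, app_lt c x.v⟩⟩
  map_zero' := ext' (by
    show app c 0 = 0
    simp [app, pick, tab])
  map_add' x y := ext' (by
    show app c (x.v.val ^^^ y.v.val) = app c x.v.val ^^^ app c y.v.val
    exact app_xor c x.v y.v)

/-- Multiplication from the left. -/
def mL (a : SL) : Mat →+ Mat := map (tab64 codeL a.n)

/-- Multiplication from the right. -/
def mR (a : SL) : Mat →+ Mat := map (tab64 codeR a.n)

/-- The twisted transpose. -/
def mS : Mat →+ Mat := map codeS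

/-- The eight matrices of the bits. -/
def bit (k : Fin 8) : Mat := ⟨⟨2 ^ k.val, by
  have h : 2 ^ k.val < 2 ^ 8 := Nat.pow_lt_pow_right (by norm_num) k.isLt
  exact h⟩⟩

theorem low_bits : ∀ x : Mat,
    x = (List.finRange 8).foldl (fun y k => bif Nat.testBit x.v k.val then y + bit k else y) 0 := by
  decide +kernel

theorem hom_ext {f g : Mat →+ Mat} (h : ∀ k, f (bit k) = g (bit k)) : f = g := by
  refine AddMonoidHom.ext fun x => ?_
  have key : ∀ (l : List (Fin 8)) (y : Mat), f y = g y →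
      f (l.foldl (fun y k => bif Nat.testBit x.v k.val then y + bit k else y) y) =
        g (l.foldl (fun y k => bif Nat.testBit x.v k.val then y + bit k else y) y) := by
    intro l
    induction l with
    | nil => exact fun y hy => hy
    | cons k l ih =>
      intro y hy
      refine ih _ ?_
      beta_reduce
      cases Nat.testBit x.v k.val
      · exact hy
      · simp only [cond_true, map_add, hy, h]
  rw [low_bits x]
  exact key _ 0 (by rw [map_zero, map_zero])

theorem mL_bit : ∀ a b : SL, ∀ k, mL (a * b) (bit k) = mL a (mL b (bit k)) := by decide +kernel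

theorem mR_bit : ∀ a b : SL, ∀ k, mR (a * b) (bit k) = mR a (mR b (bit k)) := by decide +kernel

theorem comm_bit : ∀ a b : SL, ∀ k, mL a (mR b (bit k)) = mR b (mL a (bit k)) := by decide +kernel

theorem mS_bit : ∀ a : SL, ∀ k, mS (mL a (bit k)) = mR (SL.fr a) (mS (bit k)) := by decide +kernel

theorem mS_bit' : ∀ a : SL, ∀ k, mS (mR a (bit k)) = mL (SL.fr a) (mS (bit k)) := by
  decide +kernel

theorem mS_sq_bit : ∀ k, mS (mS (bit k)) = bit k := by decide +kernel

theorem one_bit : ∀ k, mL 1 (bit k) = bit k ∧ mR 1 (bit k) = bit k := by decide +kernel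

theorem mL_mul (a b : SL) (x : Mat) : mL (a * b) x = mL a (mL b x) :=
  DFunLike.congr_fun (hom_ext (f := mL (a * b)) (g := (mL a).comp (mL b)) (mL_bit a b)) x

theorem mR_mul (a b : SL) (x : Mat) : mR (a * b) x = mR a (mR b x) :=
  DFunLike.congr_fun (hom_ext (f := mR (a * b)) (g := (mR a).comp (mR b)) (mR_bit a b)) x

theorem mL_mR (a b : SL) (x : Mat) : mR b (mL a x) = mL a (mR b x) :=
  (DFunLike.congr_fun (hom_ext (f := (mL a).comp (mR b)) (g := (mR b).comp (mL a))
    (comm_bit a b)) x).symm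

theorem mS_mL (a : SL) (x : Mat) : mS (mL a x) = mR (SL.fr a) (mS x) :=
  DFunLike.congr_fun (hom_ext (f := mS.comp (mL a)) (g := (mR (SL.fr a)).comp mS) (mS_bit a)) x

theorem mS_mR (a : SL) (x : Mat) : mS (mR a x) = mL (SL.fr a) (mS x) :=
  DFunLike.congr_fun (hom_ext (f := mS.comp (mR a)) (g := (mL (SL.fr a)).comp mS) (mS_bit' a)) x

theorem mS_mS (x : Mat) : mS (mS x) = x :=
  DFunLike.congr_fun (hom_ext (f := mS.comp mS) (g := AddMonoidHom.id Mat) mS_sq_bit) x

theorem mL_one (x : Mat) : mL 1 x = x :=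
  DFunLike.congr_fun (hom_ext (f := mL 1) (g := AddMonoidHom.id Mat) fun k => (one_bit k).1) x

theorem mR_one (x : Mat) : mR 1 x = x :=
  DFunLike.congr_fun (hom_ext (f := mR 1) (g := AddMonoidHom.id Mat) fun k => (one_bit k).2) x

end Mat

namespace K

/-- The action on the matrices. -/
def act (k : K) : Mat →+ Mat :=
  (Mat.mL k.a).comp ((Mat.mR k.b).comp (cond k.s Mat.mS (AddMonoidHom.id Mat)))

theorem act_one (x : Mat) : act 1 x = x := by
  simp [act, one_def, Mat.mL_one, Mat.mR_one]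

theorem act_mul (k l : K) (x : Mat) : act (k * l) x = act k (act l x) := by
  obtain ⟨a, b, s⟩ := k
  obtain ⟨c, d, r⟩ := l
  cases s <;> cases r <;>
    simp [act, mul_def, Mat.mL_mul, Mat.mR_mul, Mat.mL_mR, Mat.mS_mL, Mat.mS_mR, Mat.mS_mS]

end K

/-- The group. -/
structure Md where
  /-- The matrix. -/
  v : Mat
  /-- The linear part. -/
  k : K
deriving DecidableEq

namespace Md

instance : Fintype Md :=
  Fintype.ofEquiv (Mat × K) ⟨fun p => ⟨p.1, p.2⟩, fun d => (d.v, d.k), fun _ => rfl, fun _ => rfl⟩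

instance : Mul Md := ⟨fun d e => ⟨d.v + d.k.act e.v, d.k * e.k⟩⟩

theorem mul_def (d e : Md) : d * e = ⟨d.v + d.k.act e.v, d.k * e.k⟩ := rfl

instance : One Md := ⟨⟨0, 1⟩⟩

theorem one_def : (1 : Md) = ⟨0, 1⟩ := rfl

instance : Inv Md := ⟨fun d => ⟨-(d.k⁻¹.act d.v), d.k⁻¹⟩⟩

theorem inv_def (d : Md) : d⁻¹ = ⟨-(d.k⁻¹.act d.v), d.k⁻¹⟩ := rfl

instance : Group Md :=
  Group.ofLeftAxioms
    (fun d e f => by simp [mul_def, K.act_mul, mul_assoc, add_assoc])
    (fun d => by simp [mul_def, one_def, K.act_one])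
    (fun d => by simp [mul_def, one_def, inv_def])

/-- The linear part, as a homomorphism. -/
def proj : Md →* K where
  toFun d := d.k
  map_one' := rfl
  map_mul' _ _ := rfl

/-- A translation. -/
def tr (x : Mat) : Md := ⟨x, 1⟩

theorem tr_mul (x y : Mat) : tr x * tr y = tr (x + y) := by
  simp [tr, mul_def, K.act_one]

/-- The translations. -/
def V : Subgroup Md := proj.ker

theorem mem_V {d : Md} : d ∈ V ↔ d.k = 1 := MonoidHom.mem_ker

theorem card_md : Nat.card Md = 1843200 := by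
  rw [Nat.card_congr (α := Md) (β := Mat × K)
      ⟨fun d => (d.v, d.k), fun p => ⟨p.1, p.2⟩, fun _ => rfl, fun _ => rfl⟩,
    Nat.card_prod, Nat.card_congr (α := K) (β := SL × SL × Bool)
      ⟨fun k => (k.a, k.b, k.s), fun p => ⟨p.1, p.2.1, p.2.2⟩, fun _ => rfl, fun _ => rfl⟩,
    Nat.card_prod, Nat.card_prod]
  have h1 : Nat.card Mat = 256 := by
    rw [Nat.card_congr (α := Mat) (β := Fin 256) ⟨Mat.v, Mat.mk, fun _ => rfl, fun _ => rfl⟩,
      Nat.card_fin]
  have h2 : Nat.card SL = 60 := by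
    rw [Nat.card_congr (α := SL) (β := Fin 60) ⟨SL.n, SL.mk, fun _ => rfl, fun _ => rfl⟩,
      Nat.card_fin]
  rw [h1, h2, Nat.card_eq_fintype_card (α := Bool), Fintype.card_bool]

end Md

end CfsgLib.HNRec.Endgame
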